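import Cfsg.Agent.TwoFusion.ClosedFam
import Cfsg.Prelude.Def_Exceptional
import Cfsg.Prelude.Def_Classical

/-!
# Foote's theorem (S1252): definitions for the case of a simple group

* `Exc G` : the exceptional groups `PSU(3,2^n)` and `Sz(2^n)`;
* `TwoElt x` : `x` is a 2-element;
* `Nice G` : for every closed family `𝒜` of `G` (the conjugates of a strongly closed subgroup of a Sylow 2-subgroup)
  every 2-element of `⟨𝒜⟩` lies in `𝒜`;
* `IH n` : every non-abelian simple group of order `< n` is exceptional or nice.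

Row of a family of simple groups: `(G simple) (e : G ≃* ...) (ih : IH (Nat.card G)) : Exc G ∨ Nice G`.
-/

set_option autoImplicit false

namespace Cfsg.Agent.FooteNice

open Subgroup
open Cfsg.Agent.TwoFusion.ClosedFam

universe u v

/-- The exceptions: `PSU(3,2^n)`, `n ≥ 2`, and the Suzuki groups. -/
def Exc (G : Type u) [Group G] : Prop :=
  (∃ (F : Type) (_ : Field F) (_ : Fintype F) (q : ℕ), Fintype.card F = q ^ 2 ∧ Even q ∧ 4 ≤ q ∧
    Nonempty (G ≃* Cfsg.PSU 3 F q)) ∨ Cfsg.IsSuzuki G

/-- `x` is a 2-element. -/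
def TwoElt {G : Type u} [Group G] (x : G) : Prop := ∃ k : ℕ, x ^ 2 ^ k = 1

/-- All 2-elements of `⟨𝒜⟩` lie in `𝒜`. -/
def Full {G : Type u} [Group G] (𝒜 : Set G) : Prop := ∀ x ∈ fam 𝒜 ⊤, TwoElt x → x ∈ 𝒜

/-- All closed families of `G` are full. -/
def Nice (G : Type u) [Group G] : Prop := ∀ 𝒜 : Set G, IsClosedFam 𝒜 → Full 𝒜

/-- The induction hypothesis: every non-abelian simple group of order `< n` is exceptional or nice. -/
def IH (n : ℕ) : Prop := ∀ (X : Type u) [Group X] [Finite X] [IsSimpleGroup X], (∃ a b : X, a * b ≠ b * a) →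
  Nat.card X < n → Exc X ∨ Nice X

end Cfsg.Agent.FooteNice
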