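import Cfsg.Agent.FooteNice.Defs
import Cfsg.Agent.TwoFusion.TransferIndex
import Cfsg.Agent.S1251

/-!
# `Nice` is closed under extensions

* `lift_mem` : a 2-element `x ∈ a M`, `a ∈ 𝒜`, all 2-elements of the normal subgroup `M` in `𝒜`, lies in `𝒜`;
* `Nice.congr`, `nice_of_forall`, `nice_of_normal_sylow`, `nice_of_isPGroup`, `nice_of_odd`, `nice_of_comm`;
* `Nice.ext` : `N` normal, `N` nice, `G ⧸ N` nice ⟹ `G` nice;
* `nice_of_solvable`.
-/

set_option autoImplicit false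
set_option linter.style.haveILetI false

namespace Cfsg.Agent.FooteNice

open Subgroup
open Cfsg.Agent.TwoFusion.ClosedFam

universe u v

/-! ### 2-elements -/

theorem TwoElt.map {G : Type u} {H : Type v} [Group G] [Group H] (f : G →* H) {x : G} (hx : TwoElt x) :
    TwoElt (f x) := by
  obtain ⟨k, hk⟩ := hx
  exact ⟨k, by rw [← map_pow, hk, map_one]⟩

theorem twoElt_of_map {G : Type u} {H : Type v} [Group G] [Group H] (f : G →* H) (hf : Function.Injective f) {x : G}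
    (hx : TwoElt (f x)) : TwoElt x := by
  obtain ⟨k, hk⟩ := hx
  exact ⟨k, hf (by rw [map_pow, hk, map_one])⟩

theorem twoElt_coe {G : Type u} [Group G] {H : Subgroup G} {x : H} : TwoElt (x : G) ↔ TwoElt x :=
  ⟨fun h => twoElt_of_map H.subtype H.subtype_injective h, fun h => h.map H.subtype⟩

theorem TwoElt.conj {G : Type u} [Group G] {x : G} (hx : TwoElt x) (g : G) : TwoElt (g * x * g⁻¹) := by
  obtain ⟨k, hk⟩ := hx
  refine ⟨k, ?_⟩
  rw [conj_pow, hk]; group

theorem TwoElt.inv {G : Type u} [Group G] {x : G} (hx : TwoElt x) : TwoElt x⁻¹ := by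
  obtain ⟨k, hk⟩ := hx
  exact ⟨k, by rw [inv_pow, hk, inv_one]⟩

theorem TwoElt.mul_of_comm {G : Type u} [Group G] {x y : G} (hx : TwoElt x) (hy : TwoElt y) (hc : x * y = y * x) :
    TwoElt (x * y) := by
  obtain ⟨k, hk⟩ := hx
  obtain ⟨l, hl⟩ := hy
  have hc' : Commute x y := hc
  refine ⟨k + l, ?_⟩
  rw [hc'.mul_pow, pow_add, pow_mul, hk, one_pow, one_mul, mul_comm (2 ^ k), pow_mul, hl, one_pow]

theorem TwoElt.isPGroup {G : Type u} [Group G] {x : G} (hx : TwoElt x) : IsPGroup 2 (zpowers x) := by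
  obtain ⟨k, hk⟩ := hx
  rintro ⟨y, hy⟩
  refine ⟨k, ?_⟩
  obtain ⟨n, rfl⟩ := mem_zpowers_iff.1 hy
  apply Subtype.ext
  simp only [SubmonoidClass.mk_pow, OneMemClass.coe_one]
  rw [← zpow_natCast, ← zpow_mul, mul_comm, zpow_mul, zpow_natCast, hk, one_zpow]

theorem twoElt_of_mem {G : Type u} [Group G] {Q : Subgroup G} (hQ : IsPGroup 2 Q) {x : G} (hx : x ∈ Q) :
    TwoElt x := by
  obtain ⟨k, hk⟩ := hQ ⟨x, hx⟩
  exact ⟨k, congrArg Subtype.val hk⟩

theorem TwoElt.exists_sylow {G : Type u} [Group G] [Finite G] {x : G} (hx : TwoElt x) : ∃ S : Sylow 2 G, x ∈ S := by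
  obtain ⟨T, hT⟩ := hx.isPGroup.exists_le_sylow
  exact ⟨T, hT (mem_zpowers x)⟩

/-- every 2-element is conjugate into a given Sylow 2-subgroup -/
theorem TwoElt.exists_conj {G : Type u} [Group G] [Finite G] {x : G} (hx : TwoElt x) (S : Sylow 2 G) :
    ∃ g : G, g * x * g⁻¹ ∈ S := by
  haveI : Fact (Nat.Prime 2) := ⟨Nat.prime_two⟩
  obtain ⟨T, hT⟩ := hx.exists_sylow
  obtain ⟨g, hg⟩ := MulAction.exists_smul_eq G T S
  exact ⟨g, by rw [← hg]; exact ⟨x, hT, rfl⟩⟩

theorem TwoElt.eq_one_of_odd {G : Type u} [Group G] [Finite G] {x : G} (hx : TwoElt x) {N : Subgroup G}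
    (hN : Odd (Nat.card N)) (hxN : x ∈ N) : x = 1 := by
  obtain ⟨k, hk⟩ := hx
  have hd1 : orderOf x ∣ 2 ^ k := orderOf_dvd_of_pow_eq_one hk
  have hd2 : orderOf x ∣ Nat.card N := by
    have := orderOf_dvd_natCard (⟨_, hxN⟩ : N)
    rwa [← Subgroup.orderOf_coe] at this
  have hc : Nat.Coprime (2 ^ k) (Nat.card N) := Nat.Coprime.pow_left k (Nat.coprime_two_left.2 hN)
  exact orderOf_eq_one_iff.1 (Nat.eq_one_of_dvd_coprimes hc hd1 hd2)

/-! ### lifting -/

/-- If all 2-elements of the kernel lie in `𝒜`, then a 2-element with the same image as an element of `𝒜` lies in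
`𝒜`. -/
theorem lift_of_hom {G : Type u} {H : Type v} [Group G] [Group H] [Finite G] {𝒜 : Set G} (h : IsClosedFam 𝒜)
    {f : G →* H} (hf : Function.Surjective f) (hM : ∀ x ∈ f.ker, TwoElt x → x ∈ 𝒜) {x a : G} (hx : TwoElt x)
    (ha : a ∈ 𝒜) (hax : f a = f x) : x ∈ 𝒜 := by
  obtain ⟨Q, hQ, -, hlift⟩ := exists_lift hf ((zpowers x).map f) (hx.isPGroup.map f)
  obtain ⟨n, hn, hnx⟩ := hlift x hx.isPGroup ⟨x, mem_zpowers x, rfl⟩
  obtain ⟨m, hm, hma⟩ := hlift a (h.isPGroup_zpowers ha) (by rw [hax]; exact ⟨x, mem_zpowers x, rfl⟩)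
  rw [MonoidHom.mem_ker] at hn hm
  have h1 : (n * x * n⁻¹) * (m * a * m⁻¹)⁻¹ ∈ 𝒜 := by
    refine hM _ ?_ (twoElt_of_mem hQ (mul_mem hnx (inv_mem hma)))
    rw [MonoidHom.mem_ker]
    simp [hn, hm, hax]
  have h2 : n * x * n⁻¹ ∈ 𝒜 := by
    have := h.mul_mem Q hQ _ (mul_mem hnx (inv_mem hma)) _ hma h1 (h.conj_mem a ha m)
    rwa [inv_mul_cancel_right] at this
  exact (h.conj_mem_iff n).1 h2

theorem lift_mem {G : Type u} [Group G] [Finite G] {𝒜 : Set G} (h : IsClosedFam 𝒜) (M : Subgroup G) [M.Normal]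
    (hM : ∀ x ∈ M, TwoElt x → x ∈ 𝒜) {x a : G} (hx : TwoElt x) (ha : a ∈ 𝒜) (hax : a⁻¹ * x ∈ M) : x ∈ 𝒜 := by
  refine lift_of_hom h (QuotientGroup.mk'_surjective M) ?_ hx ha ?_
  · rw [QuotientGroup.ker_mk']; exact hM
  · rw [QuotientGroup.mk'_apply, QuotientGroup.mk'_apply, QuotientGroup.eq]
    exact hax

/-- Reduction modulo a normal subgroup all of whose 2-elements lie in `𝒜`. -/
theorem full_of_quotient {G : Type u} [Group G] [Finite G] {𝒜 : Set G} (h : IsClosedFam 𝒜) (M : Subgroup G)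
    [M.Normal] (hM : ∀ x ∈ M, TwoElt x → x ∈ 𝒜) (hF : Full (QuotientGroup.mk' M '' 𝒜)) : Full 𝒜 := by
  intro x hx hx2
  have h1 : QuotientGroup.mk' M x ∈ fam (QuotientGroup.mk' M '' 𝒜) ⊤ := by
    rw [← map_fam_top]
    exact mem_map_of_mem _ hx
  obtain ⟨a, ha, hax⟩ := hF _ h1 (hx2.map _)
  refine lift_of_hom h (QuotientGroup.mk'_surjective M) ?_ hx2 ha hax
  rw [QuotientGroup.ker_mk']; exact hM

/-! ### Simple closure properties -/

theorem Nice.congr {G : Type u} {H : Type v} [Group G] [Group H] (e : G ≃* H) (hG : Nice G) : Nice H := by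
  intro 𝒜 h x hx hx2
  have h1 : IsClosedFam (e ⁻¹' 𝒜) := by
    refine ⟨?_, ?_, ?_, ?_⟩
    · show e 1 ∈ 𝒜
      rw [map_one]; exact h.one_mem
    · intro y hy g
      show e (g * y * g⁻¹) ∈ 𝒜
      rw [map_mul, map_mul, map_inv]
      exact h.conj_mem _ hy _
    · intro y hy
      obtain ⟨k, hk⟩ := h.two _ hy
      exact ⟨k, e.injective (by rw [map_pow, hk, map_one])⟩
    · intro Q hQ y hyQ z hzQ hy hz
      show e (y * z) ∈ 𝒜
      rw [map_mul]
      exact h.mul_mem (Q.map e.toMonoidHom) (hQ.map _) _ ⟨y, hyQ, rfl⟩ _ ⟨z, hzQ, rfl⟩ hy hz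
  have h2 : e.symm x ∈ fam (e ⁻¹' 𝒜) ⊤ := by
    have h3 : (fam (e ⁻¹' 𝒜) ⊤).map e.toMonoidHom = fam 𝒜 ⊤ := by
      rw [map_fam_top]
      congr 1
      exact Set.image_preimage_eq 𝒜 e.surjective
    rw [← h3] at hx
    obtain ⟨y, hy, rfl⟩ := hx
    have : e.symm (e.toMonoidHom y) = y := e.symm_apply_apply y
    rw [this]; exact hy
  have h3 := hG _ h1 _ h2 (hx2.map e.symm.toMonoidHom)
  have h4 : e (e.symm x) ∈ 𝒜 := h3
  rwa [MulEquiv.apply_symm_apply] at h4

/-- for a simple group it suffices to show that a non-trivial closed family contains all 2-elements -/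
theorem nice_of_forall {G : Type u} [Group G]
    (hG : ∀ 𝒜 : Set G, IsClosedFam 𝒜 → (∃ a ∈ 𝒜, a ≠ 1) → ∀ x, TwoElt x → x ∈ 𝒜) : Nice G := by
  intro 𝒜 h x hx hx2
  by_cases hA : ∃ a ∈ 𝒜, a ≠ 1
  · exact hG 𝒜 h hA x hx2
  · push Not at hA
    have h1 : fam 𝒜 ⊤ ≤ ⊥ := by
      rw [fam_le_iff]
      intro y hy _
      rw [hA y hy]; exact one_mem _
    rw [mem_bot.1 (h1 hx)]
    exact h.one_mem

/-- a group with a normal Sylow 2-subgroup is nice -/
theorem nice_of_normal_sylow {G : Type u} [Group G] [Finite G] (Q : Subgroup G) (hQ : IsPGroup 2 Q)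
    (hQ2 : ∀ x : G, TwoElt x → x ∈ Q) : Nice G := by
  intro 𝒜 h x hx hx2
  have h1 : fam 𝒜 ⊤ ≤ fam 𝒜 Q := by
    rw [fam_le_iff]
    intro y hy _
    exact mem_fam hy (hQ2 y (h.two y hy))
  exact ((h.mem_fam_iff hQ).1 (h1 hx)).1

theorem nice_of_isPGroup {G : Type u} [Group G] [Finite G] (hG : IsPGroup 2 G) : Nice G :=
  nice_of_normal_sylow ⊤ (hG.to_subgroup ⊤) fun _ _ => mem_top _

theorem nice_of_odd {G : Type u} [Group G] [Finite G] (hG : Odd (Nat.card G)) : Nice G := by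
  refine nice_of_normal_sylow ⊥ IsPGroup.of_bot fun x hx => ?_
  rw [mem_bot]
  exact hx.eq_one_of_odd (N := ⊤) (by rwa [Subgroup.card_top]) (mem_top _)

theorem nice_of_comm {G : Type u} [Group G] [Finite G] (hG : ∀ a b : G, a * b = b * a) : Nice G := by
  let Q : Subgroup G :=
    { carrier := {x | TwoElt x}
      one_mem' := ⟨0, one_pow _⟩
      mul_mem' := fun {a b} ha hb => TwoElt.mul_of_comm ha hb (hG a b)
      inv_mem' := fun {a} ha => TwoElt.inv ha }
  refine nice_of_normal_sylow Q ?_ fun x hx => hx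
  rintro ⟨x, k, hk⟩
  exact ⟨k, Subtype.ext hk⟩

/-! ### Extensions -/

theorem full_restrict {G : Type u} [Group G] {𝒜 : Set G} {N : Subgroup G} (hN : Full {x : N | (x : G) ∈ 𝒜}) :
    ∀ x ∈ fam 𝒜 N, TwoElt x → x ∈ 𝒜 := by
  intro x hx hx2
  have hxN := fam_le 𝒜 N hx
  rw [← map_fam_restrict_top] at hx
  obtain ⟨y, hy, rfl⟩ := hx
  exact hN y hy (twoElt_coe.1 hx2)

/-- the 2-elements of `⟨𝒜 ∩ N⟩`, `N` nice -/
theorem Nice.mem {G : Type u} [Group G] {𝒜 : Set G} (h : IsClosedFam 𝒜) {N : Subgroup G} (hN : Nice N) {x : G}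
    (hx : x ∈ fam 𝒜 N) (hx2 : TwoElt x) : x ∈ 𝒜 := full_restrict (hN _ (h.restrict N)) x hx hx2

/-- the central step: `𝒜 ∩ N = 1`, `O(N) = 1` -/
theorem full_of_disjoint {G : Type u} [Group G] [Finite G] {𝒜 : Set G} (h : IsClosedFam 𝒜) (N : Subgroup G)
    [hNn : N.Normal] (hO : Cfsg.oddCore ↥N = ⊥) (hdisj : ∀ x ∈ 𝒜, x ∈ N → x = 1)
    (hF : Full (QuotientGroup.mk' N '' 𝒜)) : Full 𝒜 := by
  classical
  haveI : Fact (Nat.Prime 2) := ⟨Nat.prime_two⟩
  set E := fam 𝒜 ⊤ with hE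
  -- `E` centralises `N`
  have hEN : ∀ e ∈ E, ∀ n ∈ N, e * n = n * e := by
    have h1 : E ≤ centralizer (N : Set G) := by
      rw [hE, fam_le_iff]
      intro a ha _
      obtain ⟨S, hS⟩ := (show TwoElt a from h.two a ha).exists_sylow
      refine Cfsg.Agent.S1251.result S (fam 𝒜 (S : Subgroup G)) (h.isStronglyClosed S) N ?_ hO ?_
        (mem_fam ha hS)
      · rw [Subgroup.normalizer_eq_top]; exact le_top
      · rw [eq_bot_iff]
        rintro x ⟨hx, hxN⟩
        exact mem_bot.2 (hdisj x ((h.mem_fam_iff S.2).1 hx).1 hxN)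
    intro e he n hn
    exact (mem_centralizer_iff.1 (h1 he) n hn).symm
  -- decomposition
  have hdec : ∀ x ∈ E, TwoElt x → ∃ a ∈ 𝒜, ∃ n ∈ N, x = a * n := by
    intro x hx hx2
    have h1 : QuotientGroup.mk' N x ∈ fam (QuotientGroup.mk' N '' 𝒜) ⊤ := by
      rw [← map_fam_top]; exact mem_map_of_mem _ hx
    obtain ⟨a, ha, hax⟩ := hF _ h1 (hx2.map _)
    rw [QuotientGroup.mk'_apply, QuotientGroup.mk'_apply, QuotientGroup.eq] at hax
    exact ⟨a, ha, a⁻¹ * x, hax, by group⟩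
  have h𝒜E : ∀ a ∈ 𝒜, a ∈ E := fun a ha => mem_fam ha (mem_top _)
  obtain ⟨P⟩ : Nonempty (Sylow 2 E) := inferInstance
  set 𝒜E : Set E := {x : E | (x : G) ∈ 𝒜} with h𝒜E'
  have hcl : IsClosedFam 𝒜E := h.restrict E
  set D := fam 𝒜E (P : Subgroup E) with hD
  obtain ⟨K, hK, hKi, hKP⟩ := Cfsg.Agent.TwoFusion.TransferIndex.exists_normal_of_fusion P D (fam_le _ _) (by
    intro s hs g hg
    obtain ⟨a, ha, n, hn, hsan⟩ := hdec s s.2 (twoElt_coe.2 (twoElt_of_mem P.2 hs))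
    have hnE : n ∈ E := by
      have : n = a⁻¹ * s := by rw [hsan]; group
      rw [this]; exact mul_mem (inv_mem (h𝒜E a ha)) s.2
    -- `n` is central in `E`
    have hnc : ∀ e : E, (e : G) * n = n * e := fun e => hEN e e.2 n hn
    have hn2 : TwoElt n := by
      have e1 : n = a⁻¹ * s := by rw [hsan]; group
      rw [e1]
      refine TwoElt.mul_of_comm (TwoElt.inv (h.two a ha)) (twoElt_coe.2 (twoElt_of_mem P.2 hs)) ?_
      rw [hsan]
      have := hEN a (h𝒜E a ha) n hn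
      calc a⁻¹ * (a * n) = n := by group
        _ = (a * n) * a⁻¹ := by rw [this]; group
    have hnP : (⟨n, hnE⟩ : E) ∈ (P : Subgroup E) := by
      have hz : IsPGroup 2 (zpowers (⟨n, hnE⟩ : E)) := TwoElt.isPGroup (twoElt_coe.1 hn2)
      have hzn : (zpowers (⟨n, hnE⟩ : E)).Normal := by
        refine ⟨fun y hy e => ?_⟩
        obtain ⟨i, rfl⟩ := mem_zpowers_iff.1 hy
        have hc : Commute e (⟨n, hnE⟩ : E) := Subtype.ext (hnc e)
        rw [(hc.zpow_right i).eq, mul_inv_cancel_right]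
        exact zpow_mem (mem_zpowers _) i
      have h1 : IsPGroup 2 ((P : Subgroup E) ⊔ zpowers (⟨n, hnE⟩ : E) : Subgroup E) :=
        P.2.to_sup_of_normal_right hz
      have h2 := P.3 h1 le_sup_left
      rw [← h2]
      exact (le_sup_right : zpowers (⟨n, hnE⟩ : E) ≤ _) (mem_zpowers _)
    have haP : (⟨a, h𝒜E a ha⟩ : E) ∈ (P : Subgroup E) := by
      have e1 : (⟨a, h𝒜E a ha⟩ : E) = s * (⟨n, hnE⟩ : E)⁻¹ := by
        apply Subtype.ext
        show a = (s : G) * n⁻¹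
        rw [hsan]; group
      rw [e1]; exact mul_mem hs (inv_mem hnP)
    set a' : E := ⟨a, h𝒜E a ha⟩ with ha'
    set n' : E := ⟨n, hnE⟩ with hn'
    have hs' : s = a' * n' := Subtype.ext hsan
    have hc' : ∀ e : E, e * n' = n' * e := fun e => Subtype.ext (hnc e)
    have hga : g * s * g⁻¹ = (g * a' * g⁻¹) * n' := by
      rw [hs']
      calc g * (a' * n') * g⁻¹ = g * a' * (n' * g⁻¹) := by group
        _ = g * a' * (g⁻¹ * n') := by rw [← hc']
        _ = (g * a' * g⁻¹) * n' := by group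
    have hgaP : g * a' * g⁻¹ ∈ (P : Subgroup E) := by
      have e1 : g * a' * g⁻¹ = (g * s * g⁻¹) * n'⁻¹ := by rw [hga]; group
      rw [e1]; exact mul_mem hg (inv_mem hnP)
    have e2 : s⁻¹ * (g * s * g⁻¹) = a'⁻¹ * (g * a' * g⁻¹) := by
      rw [hga, hs']
      calc (a' * n')⁻¹ * ((g * a' * g⁻¹) * n') = n'⁻¹ * (a'⁻¹ * (g * a' * g⁻¹) * n') := by group
        _ = n'⁻¹ * (n' * (a'⁻¹ * (g * a' * g⁻¹))) := by rw [hc']
        _ = a'⁻¹ * (g * a' * g⁻¹) := by group
    rw [e2]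
    refine mul_mem (inv_mem (mem_fam ha haP)) (mem_fam (hcl.conj_mem a' ha g) hgaP))
  -- `K = E`
  have hKtop : K = ⊤ := by
    have h1 : fam 𝒜E ⊤ ≤ K := by
      rw [fam_le_iff]
      intro a ha _
      obtain ⟨g, hg⟩ := (show TwoElt a from hcl.two a ha).exists_conj P
      have h2 : g * a * g⁻¹ ∈ K := by
        have : g * a * g⁻¹ ∈ D := mem_fam (hcl.conj_mem a ha g) hg
        rw [← hKP] at this
        exact this.1
      have h3 := hK.conj_mem _ h2 g⁻¹
      have e : g⁻¹ * (g * a * g⁻¹) * g⁻¹⁻¹ = a := by group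
      rwa [e] at h3
    have h2 : fam 𝒜E ⊤ = ⊤ := by
      have h3 := map_fam_restrict_top 𝒜 E
      have h4 : fam 𝒜 E = E := by
        apply le_antisymm (fam_le _ _)
        rw [hE]
        rw [fam_le_iff]
        intro a ha _
        exact mem_fam ha (mem_fam ha (mem_top _))
      rw [h4] at h3
      rw [eq_top_iff]
      intro y _
      have : (y : G) ∈ (fam 𝒜E ⊤).map E.subtype := by rw [h3]; exact y.2
      obtain ⟨z, hz, hzy⟩ := this
      rwa [← Subtype.ext hzy]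
    rw [h2] at h1
    exact top_le_iff.1 h1
  rw [hKtop, top_inf_eq] at hKP
  intro x hx hx2
  have hx2' : TwoElt (⟨x, hx⟩ : E) := twoElt_coe.1 hx2
  obtain ⟨g, hg⟩ := hx2'.exists_conj P
  have h1 : g * (⟨x, hx⟩ : E) * g⁻¹ ∈ D := by rw [← hKP]; exact hg
  have h2 := ((hcl.mem_fam_iff P.2).1 h1).1
  exact (hcl.conj_mem_iff g).1 h2

/-- `O(N / O(N)) = 1` -/
theorem oddCore_map_eq_bot {G : Type u} [Group G] [Finite G] (N : Subgroup G) [hMn : (core N).Normal] :
    Cfsg.oddCore ↥(N.map (QuotientGroup.mk' (core N))) = ⊥ := by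
  set f := QuotientGroup.mk' (core N) with hf
  set N2 := N.map f with hN2
  let φ : N →* N2 := (f.comp N.subtype).codRestrict N2 fun x => mem_map_of_mem f x.2
  have hφ : Function.Surjective φ := by
    rintro ⟨_, n, hn, rfl⟩
    exact ⟨⟨n, hn⟩, rfl⟩
  have hker : ∀ x : N, φ x = 1 → x ∈ Cfsg.pPrimeCore 2 N := by
    intro x hx
    have h1 : f (x : G) = 1 := congrArg Subtype.val hx
    rw [hf, QuotientGroup.mk'_apply, QuotientGroup.eq_one_iff] at h1
    obtain ⟨y, hy, hyx⟩ := h1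
    rwa [← Subtype.ext hyx]
  set K := Cfsg.oddCore N2 with hK
  have hKodd : Odd (Nat.card K) := Nat.coprime_two_right.1 (Cfsg.Agent.Lib.Cores.pPrimeCore_coprime 2)
  haveI hKn : K.Normal := Cfsg.Agent.Lib.Cores.pPrimeCore_normal 2
  have hle : K.comap φ ≤ Cfsg.pPrimeCore 2 N := by
    refine Cfsg.Agent.Lib.Cores.le_pPrimeCore (hKn.comap φ) ?_
    rw [Nat.coprime_two_right]
    by_contra hcon
    rw [Nat.not_odd_iff_even, even_iff_two_dvd] at hcon
    obtain ⟨x, hx⟩ := exists_prime_orderOf_dvd_card' 2 hcon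
    have hx2 : TwoElt (x : N) := ⟨1, by
      have h1 : x ^ 2 = 1 := by rw [← hx]; exact pow_orderOf_eq_one x
      rw [pow_one]; exact congrArg Subtype.val h1⟩
    have h2 : φ x = 1 := (hx2.map φ).eq_one_of_odd hKodd x.2
    have h3 : (x : N) = 1 := hx2.eq_one_of_odd
      (Nat.coprime_two_right.1 (Cfsg.Agent.Lib.Cores.pPrimeCore_coprime 2)) (hker x h2)
    have h4 : x = 1 := Subtype.ext h3
    rw [h4, orderOf_one] at hx
    exact absurd hx (by norm_num)
  rw [eq_bot_iff]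
  intro y hy
  obtain ⟨x, rfl⟩ := hφ y
  have h1 := hle (show x ∈ K.comap φ from hy)
  rw [mem_bot]
  apply Subtype.ext
  show f (x : G) = 1
  rw [hf, QuotientGroup.mk'_apply, QuotientGroup.eq_one_iff]
  exact ⟨x, h1, rfl⟩

theorem map_mk_ker_le {G : Type u} [Group G] {N M : Subgroup G} [N.Normal] [M.Normal] (hMN : M ≤ N) :
    Nonempty ((G ⧸ M) ⧸ (N.map (QuotientGroup.mk' M)) ≃* G ⧸ N) :=
  ⟨QuotientGroup.quotientQuotientEquivQuotient M N hMN⟩

/-- **`Nice` is closed under extensions.** -/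
theorem Nice.ext {G : Type u} [Group G] [Finite G] (N : Subgroup G) [hNn : N.Normal] (hN : Nice N)
    (hQ : Nice (G ⧸ N)) : Nice G := by
  intro 𝒜 h
  -- modulo `⟨𝒜 ∩ N⟩`
  haveI hM1n : (fam 𝒜 N).Normal := h.fam_normal N
  refine full_of_quotient h (fam 𝒜 N) (fun x hx hx2 => hN.mem h hx hx2) ?_
  set M1 := fam 𝒜 N with hM1
  have hM1N : M1 ≤ N := fam_le _ _
  set f1 := QuotientGroup.mk' M1 with hf1
  have hf1s : Function.Surjective f1 := QuotientGroup.mk'_surjective M1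
  have h1 : IsClosedFam (f1 '' 𝒜) := h.image hf1s
  set N1 := N.map f1 with hN1
  haveI : N1.Normal := hNn.map f1 hf1s
  have hdis1 : ∀ x ∈ f1 '' 𝒜, x ∈ N1 → x = 1 := by
    rintro _ ⟨a, ha, rfl⟩ ⟨n, hn, hna⟩
    have haN : a ∈ N := by
      have h2 : n⁻¹ * a ∈ M1 := by
        rw [hf1, QuotientGroup.mk'_apply, QuotientGroup.mk'_apply, QuotientGroup.eq] at hna
        exact hna
      have := mul_mem hn (hM1N h2)
      rwa [mul_inv_cancel_left] at this
    rw [hf1, QuotientGroup.mk'_apply, QuotientGroup.eq_one_iff]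
    exact mem_fam ha haN
  have hQ1 : Nice ((G ⧸ M1) ⧸ N1) := hQ.congr (map_mk_ker_le hM1N).some.symm
  -- modulo the core of `N1`
  set M2 : Subgroup (G ⧸ M1) := core N1 with hM2
  have hcoreodd : Odd (Nat.card M2) := by
    rw [hM2]
    unfold core
    rw [← Nat.coprime_two_right, Subgroup.card_map_of_injective N1.subtype_injective]
    exact Cfsg.Agent.Lib.Cores.pPrimeCore_coprime 2
  haveI hM2n : M2.Normal := by
    haveI := Cfsg.Agent.Lib.Cores.pPrimeCore_characteristic (G := N1) 2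
    rw [hM2]
    unfold core
    exact (ConjAct.normal_of_characteristic_of_normal (H := N1) (K := Cfsg.pPrimeCore 2 N1))
  have hM2N1 : M2 ≤ N1 := by
    rw [hM2]; unfold core; exact map_subtype_le _
  refine full_of_quotient h1 M2 (fun x hx hx2 => ?_) ?_
  · rw [hx2.eq_one_of_odd hcoreodd hx]; exact h1.one_mem
  set f2 := QuotientGroup.mk' M2 with hf2
  have hf2s : Function.Surjective f2 := QuotientGroup.mk'_surjective M2
  have h2 : IsClosedFam (f2 '' (f1 '' 𝒜)) := h1.image hf2s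
  set N2 := N1.map f2 with hN2
  haveI : N2.Normal := Subgroup.Normal.map inferInstance f2 hf2s
  have hdis2 : ∀ x ∈ f2 '' (f1 '' 𝒜), x ∈ N2 → x = 1 := by
    rintro _ ⟨a, ha, rfl⟩ ⟨n, hn, hna⟩
    have haN : a ∈ N1 := by
      have h3 : n⁻¹ * a ∈ M2 := by
        rw [hf2, QuotientGroup.mk'_apply, QuotientGroup.mk'_apply, QuotientGroup.eq] at hna
        exact hna
      have := mul_mem hn (hM2N1 h3)
      rwa [mul_inv_cancel_left] at this
    rw [hdis1 a ha haN, map_one]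
  have hO : Cfsg.oddCore ↥N2 = ⊥ := oddCore_map_eq_bot N1
  have hQ2 : Nice (((G ⧸ M1) ⧸ M2) ⧸ N2) := hQ1.congr (map_mk_ker_le hM2N1).some.symm
  exact full_of_disjoint h2 N2 hO hdis2 (hQ2 _ (h2.image (QuotientGroup.mk'_surjective N2)))

/-- solvable groups are nice -/
theorem nice_of_solvable {G : Type u} [Group G] [Finite G] (hG : Group.IsSolvable G) : Nice G := by
  have key : ∀ (n : ℕ) (G : Type u) [Group G] [Finite G], Group.IsSolvable G → Nat.card G ≤ n → Nice G := by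
    intro n
    induction n with
    | zero => intro G _ _ _ hn; exact absurd Nat.card_pos (not_lt.2 hn)
    | succ n ih =>
      intro G _ _ hG hn
      by_cases h1 : _root_.commutator G = ⊤
      · -- trivial
        have h2 : Subsingleton G := by
          by_contra hcon
          haveI : Nontrivial G := not_subsingleton_iff_nontrivial.1 hcon
          haveI := hG
          exact (Group.IsSolvable.commutator_lt_top_of_nontrivial G).ne h1
        exact nice_of_comm fun a b => Subsingleton.elim _ _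
      · have hlt : Nat.card (_root_.commutator G) < Nat.card G := by
          refine lt_of_le_of_ne (Subgroup.card_le_card_group _) fun h2 => h1 ?_
          exact Subgroup.eq_top_of_card_eq _ h2
        haveI := hG
        have hs : Group.IsSolvable ↥(_root_.commutator G) := inferInstance
        refine Nice.ext (_root_.commutator G) (ih _ hs (by omega)) ?_
        refine nice_of_comm fun a b => ?_
        exact mul_comm (G := Abelianization G) a b
  exact key _ G hG le_rfl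

end Cfsg.Agent.FooteNice
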