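import Cfsg.Agent.FooteNice.Tools
import Cfsg.Agent.WeakTI.PslTwo

/-!
# Foote's theorem (S1252): criteria for the rows

All with `inp : Inputs`, `G` simple, `hG : ∃ a b, a * b ≠ b * a`.

* `row_of` : the definition unfolded;
* `of_class_two` : closed families with `𝒜 ∩ S` of class at most two;
* `row_of_one_class` : all involutions conjugate, `S / ⟨involutions⟩` cyclic;
* `row_of_local` : `S ≤ H`, `H` nice, every normal subgroup `N` of `H` has `S ∩ N` of class at most two or contains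
  `E`, and `S / (S ∩ E)` cyclic;
* `row_of_chief` : the same with `E / Q` a non-abelian chief factor;
* `row_of_quasi` : the same with `E` quasisimple.
-/

set_option autoImplicit false
set_option linter.style.haveILetI false

namespace Cfsg.Agent.FooteNice

open Subgroup
open Cfsg.Agent.TwoFusion.ClosedFam
open scoped commutatorElement

universe u v

/-- `P` has nilpotency class at most two. -/
def ClassTwo {G : Type u} [Group G] (P : Subgroup G) : Prop :=
  ∀ x ∈ P, ∀ y ∈ P, ∀ z ∈ P, Commute ⁅x, y⁆ z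

theorem ClassTwo.mono {G : Type u} [Group G] {P Q : Subgroup G} (h : ClassTwo P) (hQ : Q ≤ P) : ClassTwo Q :=
  fun x hx y hy z hz => h x (hQ hx) y (hQ hy) z (hQ hz)

/-- `PSL(2,2^n)` has abelian 2-subgroups -/
theorem comm_of_psl {G : Type u} [Group G] {F : Type} [Field F] [CharP F 2]
    (e : G ≃* Matrix.ProjectiveSpecialLinearGroup (Fin 2) F)
    {S : Subgroup G} (hS : IsPGroup 2 S) {x y : G} (hx : x ∈ S) (hy : y ∈ S) : x * y = y * x := by
  have hsq : ∀ x ∈ S, x * x = 1 := by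
    intro x hx
    obtain ⟨k, hk⟩ := hS ⟨x, hx⟩
    exact Cfsg.Agent.WeakTI.PslTwo.mul_self e (k := k) (congrArg Subtype.val hk)
  have h1 := hsq x hx
  have h2 := hsq y hy
  have h3 := hsq (x * y) (mul_mem hx hy)
  have hxi : x⁻¹ = x := inv_eq_of_mul_eq_one_left h1
  have hyi : y⁻¹ = y := inv_eq_of_mul_eq_one_left h2
  have h4 : (x * y)⁻¹ = x * y := inv_eq_of_mul_eq_one_left h3
  rw [mul_inv_rev, hxi, hyi] at h4
  exact h4.symm

/-- the definition unfolded -/
theorem row_of {G : Type u} [Group G]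
    (H : ∀ 𝒜 : Set G, IsClosedFam 𝒜 → (∃ a ∈ 𝒜, a ≠ 1) → Exc G ∨ ∀ x, TwoElt x → x ∈ 𝒜) : Exc G ∨ Nice G := by
  by_cases hE : Exc G
  · exact Or.inl hE
  · exact Or.inr (nice_of_forall fun 𝒜 h hA => (H 𝒜 h hA).resolve_left hE)

/-- The form of a row: `P` is one of the families `IsPSL`, `Spor.IsoM11`, ... of the list. -/
def Row (P : (G : Type u) → [Group G] → Prop) : Prop :=
  Inputs.{u} → ∀ (G : Type u) [Group G] [Finite G] [IsSimpleGroup G], (∃ a b : G, a * b ≠ b * a) →
    IH.{u} (Nat.card G) → P G → Exc G ∨ Nice G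

/-! ### Nice subgroups -/

/-- `H` nice, `a ∈ 𝒜 ∩ H`, `K` in every normal subgroup of `H` containing `a`: all 2-elements of `K` lie in `𝒜` -/
theorem mem_of_nice {G : Type u} [Group G] [Finite G] {𝒜 : Set G} (h : IsClosedFam 𝒜) {H : Subgroup G} (hH : Nice H)
    {a : G} (ha : a ∈ 𝒜) (haH : a ∈ H) {K : Subgroup G}
    (hK : ∀ N ≤ H, H ≤ normalizer (N : Set G) → a ∈ N → K ≤ N) : ∀ x ∈ K, TwoElt x → x ∈ 𝒜 := fun _ hx hx2 =>
  hH.mem h (hK (fam 𝒜 H) (fam_le _ _) (h.le_normalizer_fam H) (mem_fam ha haH) hx) hx2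

/-- central extensions -/
theorem nice_of_center {G : Type u} [Group G] [Finite G] (hG : Nice (G ⧸ center G)) : Nice G :=
  Nice.ext (center G) (nice_of_comm fun a b => Subtype.ext (mem_center_iff.1 b.2 a)) hG

/-- extensions by a solvable normal subgroup -/
theorem nice_of_solvable_normal {G : Type u} [Group G] [Finite G] (Q : Subgroup G) [Q.Normal]
    (hQ : Group.IsSolvable Q) (hG : Nice (G ⧸ Q)) : Nice G := Nice.ext Q (nice_of_solvable hQ) hG

/-- extensions with solvable quotient -/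
theorem nice_of_solvable_quotient {G : Type u} [Group G] [Finite G] (N : Subgroup G) [N.Normal]
    (hN : Nice N) (hG : Group.IsSolvable (G ⧸ N)) : Nice G := Nice.ext N hN (nice_of_solvable hG)

/-- a chain `Q ≤ E ≤ H` of subgroups of `G` -/
theorem nice_of_chain {G : Type u} [Group G] [Finite G] {Q E H : Subgroup G} (hQE : Q ≤ E) (hEH : E ≤ H)
    (hQ : E ≤ normalizer (Q : Set G)) (hE : H ≤ normalizer (E : Set G)) (hQN : Nice Q)
    (hEQ : ∀ [(Q.subgroupOf E).Normal], Nice (E ⧸ Q.subgroupOf E))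
    (hHE : ∀ [(E.subgroupOf H).Normal], Nice (H ⧸ E.subgroupOf H)) : Nice H := by
  haveI h1 : (Q.subgroupOf E).Normal := (normal_subgroupOf_iff_le_normalizer hQE).2 hQ
  haveI h2 : (E.subgroupOf H).Normal := (normal_subgroupOf_iff_le_normalizer hEH).2 hE
  have h3 : Nice E := Nice.ext (Q.subgroupOf E) (hQN.congr (Subgroup.subgroupOfEquivOfLe hQE).symm) hEQ
  exact Nice.ext (E.subgroupOf H) (h3.congr (Subgroup.subgroupOfEquivOfLe hEH).symm) hHE

/-- the group generated by two involutions whose product is a 2-element is a 2-group -/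
theorem isPGroup_of_pair {G : Type u} [Group G] {a b : G} (ha : a * a = 1) (hb : b * b = 1) (hab : TwoElt (a * b)) :
    IsPGroup 2 (zpowers a ⊔ zpowers (a * b) : Subgroup G) ∧ b ∈ (zpowers a ⊔ zpowers (a * b) : Subgroup G) := by
  have hai : a⁻¹ = a := inv_eq_of_mul_eq_one_left ha
  have hbi : b⁻¹ = b := inv_eq_of_mul_eq_one_left hb
  constructor
  · have h1 : IsPGroup 2 (zpowers a) := TwoElt.isPGroup ⟨1, by rw [pow_one, pow_two, ha]⟩
    refine IsPGroup.to_sup_of_normal_right' h1 hab.isPGroup ?_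
    rw [zpowers_le, Cfsg.Agent.Lib.GoldschmidtFusion.mem_normalizer_iff_map_conj]
    have h2 : (zpowers (a * b)).map (MulAut.conj a).toMonoidHom = zpowers (a * b)⁻¹ := by
      rw [MonoidHom.map_zpowers]
      congr 1
      show a * (a * b) * a⁻¹ = (a * b)⁻¹
      rw [mul_inv_rev, hai, hbi, ← mul_assoc, ha, one_mul]
    rw [h2, zpowers_inv]
  · have h1 : a⁻¹ * (a * b) ∈ (zpowers a ⊔ zpowers (a * b) : Subgroup G) :=
      mul_mem (inv_mem (mem_sup_left (mem_zpowers a))) (mem_sup_right (mem_zpowers _))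
    rwa [inv_mul_cancel_left] at h1

/-- `Exc G` fails if two non-commuting involutions generate a 2-group -/
theorem not_exc (inp : Inputs.{u}) {G : Type u} [Group G] [Finite G] {a b : G} (ha : a * a = 1) (hb : b * b = 1)
    (hab : TwoElt (a * b)) (hne : a * b ≠ b * a) : ¬ Exc G := by
  intro hE
  obtain ⟨h1, h2⟩ := isPGroup_of_pair ha hb hab
  obtain ⟨S, hS⟩ := h1.exists_le_sylow
  exact hne (inp.excInv G hE S a (hS (mem_sup_left (mem_zpowers a))) b (hS h2) ha hb)

/-- a smaller simple group with a dihedral subgroup of order 8 is nice -/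
theorem IH.nice {n : ℕ} (ih : IH.{u} n) (inp : Inputs.{u}) {X : Type u} [Group X] [Finite X] [IsSimpleGroup X]
    (hn : Nat.card X < n) {a b : X} (ha : a * a = 1) (hb : b * b = 1) (hab : TwoElt (a * b))
    (hne : a * b ≠ b * a) : Nice X :=
  (ih X ⟨a, b, hne⟩ hn).resolve_left (not_exc inp ha hb hab hne)

section

variable (inp : Inputs.{u}) {G : Type u} [Group G] [Finite G] [IsSimpleGroup G] (hG : ∃ a b : G, a * b ≠ b * a)
include inp hG

/-- closed families of class at most two -/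
theorem of_class_two (S : Sylow 2 G) (hS : ∃ x ∈ (S : Subgroup G), ∃ y ∈ (S : Subgroup G), x * y ≠ y * x)
    {𝒜 : Set G} (h : IsClosedFam 𝒜) (hA : ∃ a ∈ 𝒜, a ≠ 1) (hcl : ClassTwo (fam 𝒜 (S : Subgroup G))) :
    Exc G ∨ ∀ x, TwoElt x → x ∈ 𝒜 := by
  classical
  have hAS := h.isStronglyClosed S
  have hAbot := fam_ne_bot h S hA
  obtain ⟨B, ⟨hBne, hBS, hBA⟩, hBmin⟩ : ∃ B : Subgroup G, (B ≠ ⊥ ∧ Cfsg.IsStronglyClosed B (S : Subgroup G) ∧
      B ≤ fam 𝒜 (S : Subgroup G)) ∧
      ∀ C : Subgroup G, (C ≠ ⊥ ∧ Cfsg.IsStronglyClosed C (S : Subgroup G) ∧ C ≤ fam 𝒜 (S : Subgroup G)) →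
        C ≤ B → B ≤ C := by
    obtain ⟨B, hB⟩ := Set.Finite.exists_minimal (Set.toFinite {B : Subgroup G | B ≠ ⊥ ∧
      Cfsg.IsStronglyClosed B (S : Subgroup G) ∧ B ≤ fam 𝒜 (S : Subgroup G)}) ⟨_, hAbot, hAS, le_rfl⟩
    exact ⟨B, hB.1, fun C hC hCB => hB.2 hC hCB⟩
  by_cases hBc : IsMulCommutative B
  · left
    rcases inp.gold G S B hBne hBc hBS with hc | ⟨H, hH⟩
    · exfalso
      obtain ⟨x, hx, y, hy, hxy⟩ := hS
      exact hxy (congrArg Subtype.val (hc.is_comm.comm (⟨x, hx⟩ : (S : Subgroup G)) ⟨y, hy⟩))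
    · rcases inp.bender G hG H hH with ⟨F, _, _, hF, -, ⟨e⟩⟩ | h1 | h1
      · exfalso
        haveI := hF
        obtain ⟨x, hx, y, hy, hxy⟩ := hS
        exact hxy (comm_of_psl e S.2 hx hy)
      · exact Or.inr h1
      · exact Or.inl h1
  · right
    set ℬ : Set G := {x : G | ∃ g : G, g * x * g⁻¹ ∈ B} with hℬ
    have hfam : IsClosedFam ℬ := isClosedFam_of_isStronglyClosed S B hBS
    have hfB : fam ℬ (S : Subgroup G) = B := by
      ext x
      rw [hfam.mem_fam_iff S.2]
      constructor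
      · rintro ⟨⟨g, hg⟩, hxS⟩
        have := hBS.2 _ hg g⁻¹ (by
          have e : g⁻¹ * (g * x * g⁻¹) * g⁻¹⁻¹ = x := by group
          rw [e]; exact hxS)
        have e : g⁻¹ * (g * x * g⁻¹) * g⁻¹⁻¹ = x := by group
        rwa [e] at this
      · intro hx
        exact ⟨⟨1, by simpa using hx⟩, hBS.1 hx⟩
    have h1 := inp.classTwo G hG S ℬ hfam (by rw [hfB]; exact hcl.mono hBA) (by
      rw [hfB]
      by_contra hcon
      push Not at hcon
      exact hBc ⟨⟨fun x y => Subtype.ext (hcon x x.2 y y.2)⟩⟩) (by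
      rw [hfB]
      intro C hCB hCS
      by_cases hC : C = ⊥
      · exact Or.inl hC
      · exact Or.inr (le_antisymm hCB (hBmin C ⟨hC, hCS, hCB.trans hBA⟩ hCB)))
    rw [hfB] at h1
    refine all_of_sylow h S ?_
    rw [← h1]
    exact hBA.trans (le_of_eq (by rw [h1]))

omit inp in
/-- **one class of involutions**, `S / ⟨involutions⟩` cyclic -/
theorem nice_of_one_class (hc : ∀ x y : G, orderOf x = 2 → orderOf y = 2 → ∃ g : G, g * x * g⁻¹ = y)
    (S : Sylow 2 G) (hS : CycMod (closure {x : G | x ∈ S ∧ orderOf x = 2}) (S : Subgroup G)) : Nice G := by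
  refine nice_of_forall fun 𝒜 h hA => ?_
  obtain ⟨a, ha, ha2⟩ := exists_involution h hA
  refine all_of_cyc hG h S (hS.mono ?_)
  have h1 : closure {x : G | x ∈ S ∧ orderOf x = 2} ≤ fam 𝒜 (S : Subgroup G) := by
    rw [closure_le]
    rintro x ⟨hx, hx2⟩
    obtain ⟨g, rfl⟩ := hc a x ha2 hx2
    exact mem_fam (h.conj_mem a ha g) hx
  exact fun x hx _ => h1 hx

/-- **the local criterion** -/
theorem row_of_local (S : Sylow 2 G) (hS : ∃ x ∈ (S : Subgroup G), ∃ y ∈ (S : Subgroup G), x * y ≠ y * x)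
    (H E : Subgroup G) (hSH : (S : Subgroup G) ≤ H) (hH : Nice H) (hcyc : CycMod E (S : Subgroup G))
    (hN : ∀ N ≤ H, H ≤ normalizer (N : Set G) → E ≤ N ∨ ClassTwo ((S : Subgroup G) ⊓ N)) : Exc G ∨ Nice G := by
  refine row_of fun 𝒜 h hA => ?_
  rcases hN (fam 𝒜 H) (fam_le _ _) (h.le_normalizer_fam H) with h1 | h1
  · right
    refine all_of_cyc hG h S (hcyc.mono fun x hx hxS => ?_)
    exact mem_fam (hH.mem h (h1 hx) (twoElt_of_mem S.2 hxS)) hxS
  · refine of_class_two inp hG S hS h hA (h1.mono ?_)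
    exact le_inf (fam_le _ _) (fam_mono 𝒜 hSH)

/-- **the local criterion for a non-abelian chief factor `E / Q`** -/
theorem row_of_chief (S : Sylow 2 G) (hS : ∃ x ∈ (S : Subgroup G), ∃ y ∈ (S : Subgroup G), x * y ≠ y * x)
    (H E Q : Subgroup G) (hSH : (S : Subgroup G) ≤ H) (hH : Nice H) (hcyc : CycMod E (S : Subgroup G))
    (hEH : E ≤ H) (hQE : Q ≤ E) (hEn : H ≤ normalizer (E : Set G)) (hQn : H ≤ normalizer (Q : Set G))
    (hE : E ≤ ⁅E, E⁆) (hQs : Group.IsSolvable Q)
    (hmin : ∀ K, Q ≤ K → K ≤ E → H ≤ normalizer (K : Set G) → K = Q ∨ K = E)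
    (hC : ∀ P ≤ (S : Subgroup G), (∀ x ∈ P, ∀ y ∈ E, ⁅x, y⁆ ∈ Q) → ClassTwo P) : Exc G ∨ Nice G := by
  refine row_of_local inp hG S hS H E hSH hH hcyc fun N hNH hN => ?_
  have hNEn : H ≤ normalizer ((N ⊓ E : Subgroup G) : Set G) := by
    intro g hg
    rw [mem_normalizer_iff]
    intro x
    rw [mem_inf, mem_inf, ← mem_normalizer_iff.1 (hN hg) x, ← mem_normalizer_iff.1 (hEn hg) x]
  rcases hmin ((N ⊓ E) ⊔ Q) le_sup_right (sup_le inf_le_right hQE) (by
      intro g hg
      rw [Cfsg.Agent.Lib.GoldschmidtFusion.mem_normalizer_iff_map_conj, Subgroup.map_sup,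
        Cfsg.Agent.Lib.GoldschmidtFusion.mem_normalizer_iff_map_conj.1 (hNEn hg),
        Cfsg.Agent.Lib.GoldschmidtFusion.mem_normalizer_iff_map_conj.1 (hQn hg)]) with h1 | h1
  · right
    refine hC _ inf_le_left fun x hx y hy => ?_
    have h2 : ⁅x, y⁆ ∈ N ⊓ E := by
      rw [commutatorElement_def]
      refine ⟨?_, ?_⟩
      · have e : x * y * x⁻¹ * y⁻¹ = x * (y * x⁻¹ * y⁻¹) := by group
        rw [e]
        exact mul_mem hx.2 ((mem_normalizer_iff.1 (hN (hEH hy)) _).1 (inv_mem hx.2))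
      · exact E.mul_mem ((mem_normalizer_iff.1 (hEn (hNH hx.2)) _).1 hy) (E.inv_mem hy)
    rw [← h1]
    exact mem_sup_left h2
  · left
    -- `E = (N ⊓ E) Q`, `Q` solvable, `E` perfect
    have h2 : E ≤ N ⊓ E := by
      haveI : ((N ⊓ E).subgroupOf E).Normal := (normal_subgroupOf_iff_le_normalizer inf_le_right).2 (hEH.trans hNEn)
      set f := QuotientGroup.mk' ((N ⊓ E).subgroupOf E) with hf
      have hsurj : Function.Surjective (f.comp (inclusion hQE)) := by
        intro y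
        obtain ⟨x, rfl⟩ := QuotientGroup.mk'_surjective _ y
        have hx : (x : G) ∈ ((N ⊓ E) ⊔ Q : Subgroup G) := by rw [h1]; exact x.2
        have hx' : (x : G) ∈ (((Q ⊔ (N ⊓ E) : Subgroup G)) : Set G) := by rw [sup_comm]; exact hx
        rw [coe_mul_of_left_le_normalizer_right _ _ ((hQE.trans hEH).trans hNEn)] at hx'
        obtain ⟨q, hq, n, hn, hqn⟩ := Set.mem_mul.1 hx'
        refine ⟨⟨q, hq⟩, ?_⟩
        rw [MonoidHom.comp_apply, hf, QuotientGroup.mk'_apply, QuotientGroup.mk'_apply, QuotientGroup.eq,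
          mem_subgroupOf]
        show q⁻¹ * (x : G) ∈ N ⊓ E
        rw [← hqn, inv_mul_cancel_left]
        exact hn
      haveI := hQs
      haveI : Group.IsSolvable (E ⧸ (N ⊓ E).subgroupOf E) := Group.isSolvable_of_surjective hsurj
      have hperf : _root_.commutator (E ⧸ (N ⊓ E).subgroupOf E) = ⊤ := by
        have h3 : _root_.commutator E = ⊤ := by
          rw [eq_top_iff]
          intro x _
          have h4 : (x : G) ∈ (_root_.commutator E).map E.subtype := by
            rw [_root_.commutator_def, map_commutator, ← MonoidHom.range_eq_map, Subgroup.range_subtype]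
            exact hE x.2
          obtain ⟨y, hy, hyx⟩ := h4
          rwa [← Subtype.ext hyx]
        rw [_root_.commutator_def] at h3 ⊢
        rw [← Subgroup.map_top_of_surjective f (QuotientGroup.mk'_surjective _), ← map_commutator, h3]
      by_contra hcon
      have : Nontrivial (E ⧸ (N ⊓ E).subgroupOf E) := by
        rw [← not_subsingleton_iff_nontrivial]
        intro hs
        apply hcon
        intro x hx
        have h5 : f ⟨x, hx⟩ = 1 := Subsingleton.elim _ _
        rw [hf, QuotientGroup.mk'_apply, QuotientGroup.eq_one_iff, mem_subgroupOf] at h5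
        exact h5
      exact (Group.IsSolvable.commutator_lt_top_of_nontrivial (E ⧸ (N ⊓ E).subgroupOf E)).ne hperf
    exact h2.trans inf_le_left

/-- **the local criterion for a quasisimple normal subgroup `E`** -/
theorem nice_of_quasi (S : Sylow 2 G) (H E : Subgroup G) (hSH : (S : Subgroup G) ≤ H) (hE : Nice E)
    (hEn : H ≤ normalizer (E : Set G)) (hq : QS E) (hE1 : E ≠ ⊥)
    (hcyc : CycMod E (S : Subgroup G)) : Nice G := by
  refine nice_of_forall fun 𝒜 h hA => ?_
  have h1 : ∃ a ∈ fam 𝒜 (S : Subgroup G), ∃ x ∈ E, a * x ≠ x * a := by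
    by_contra hcon
    push Not at hcon
    refine hE1 (perfect_eq_bot inp hG h S hA E hq.1 ?_)
    intro x hx
    rw [mem_centralizer_iff]
    intro a ha
    exact hcon a ha x hx
  obtain ⟨a, ha, hax⟩ := h1
  have ha' := (h.mem_fam_iff S.2).1 ha
  have h2 := mem_of_normalizes h hE hq ha'.1 (hEn (hSH ha'.2)) hax
  exact all_of_cyc hG h S (hcyc.mono fun x hx hxS => mem_fam (h2 x hx (twoElt_of_mem S.2 hxS)) hxS)

end

end Cfsg.Agent.FooteNice
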