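import Cfsg.Agent.FooteNice.Ext
import Cfsg.Agent.ClassTwoFusion.ModA
import Cfsg.Prelude.Def_Involutions
import Mathlib.LinearAlgebra.Matrix.ProjectiveSpecialLinearGroup

/-!
# Foote's theorem (S1252): tools for the rows

`Inputs` : the theorems used (S1169, S0222, S1173, the class two theorem of S1170, disjoint strongly closed
subgroups commute); a hypothesis everywhere, so that the rows have small import closures.

Rows: `row_of` (definition unfolded), `row_of_one_class`, `row_of_local`, `row_of_chief`, `row_of_quasi`.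
-/

set_option autoImplicit false
set_option linter.style.haveILetI false

namespace Cfsg.Agent.FooteNice

open Subgroup
open Cfsg.Agent.TwoFusion.ClosedFam
open scoped commutatorElement

universe u v

/-- The theorems used by the rows. -/
structure Inputs : Prop where
  /-- S1169 -/
  gold : ∀ (X : Type u) [Group X] [Finite X] [IsSimpleGroup X] (S : Sylow 2 X) (A : Subgroup X),
    A ≠ ⊥ → IsMulCommutative A → Cfsg.IsStronglyClosed A (S : Subgroup X) →
      IsMulCommutative (S : Subgroup X) ∨ ∃ H : Subgroup X, Cfsg.IsStronglyEmbedded H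
  /-- S0222 -/
  bender : ∀ (G : Type u) [Group G] [Finite G] [IsSimpleGroup G], (∃ a b : G, a * b ≠ b * a) → ∀ H : Subgroup G,
    Cfsg.IsStronglyEmbedded H → (∃ (F : Type) (_ : Field F) (_ : Fintype F), CharP F 2 ∧ 4 ≤ Fintype.card F ∧ Nonempty (G ≃* Matrix.ProjectiveSpecialLinearGroup (Fin 2) F)) ∨ Cfsg.IsSuzuki G ∨ (∃ (F : Type) (_ : Field F) (_ : Fintype F) (q : ℕ), Fintype.card F = q ^ 2 ∧ Even q ∧ 4 ≤ q ∧ Nonempty (G ≃* Cfsg.PSU 3 F q))
  /-- S1173 -/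
  cent : ∀ (G : Type u) [Group G] [Finite G], Cfsg.oddCore G = ⊥ → ∀ (S : Sylow 2 G) (T : Subgroup G),
    Cfsg.IsStronglyClosed T (S : Subgroup G) → ((⨅ n : ℕ, derivedSeries ↥(Subgroup.centralizer (T : Set G)) n).map (Subgroup.centralizer (T : Set G)).subtype).Normal
  /-- minimal strongly closed subgroups of class two (`ClassTwoFusion`) -/
  classTwo : ∀ (G : Type u) [Group G] [Finite G] [IsSimpleGroup G], (∃ a b : G, a * b ≠ b * a) →
    ∀ (S : Sylow 2 G) (𝒜 : Set G), IsClosedFam 𝒜 →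
      (∀ x ∈ fam 𝒜 (S : Subgroup G), ∀ y ∈ fam 𝒜 (S : Subgroup G), ∀ z ∈ fam 𝒜 (S : Subgroup G), Commute ⁅x, y⁆ z) →
      (∃ x ∈ fam 𝒜 (S : Subgroup G), ∃ y ∈ fam 𝒜 (S : Subgroup G), x * y ≠ y * x) →
      (∀ B ≤ fam 𝒜 (S : Subgroup G), Cfsg.IsStronglyClosed B (S : Subgroup G) → B = ⊥ ∨ B = fam 𝒜 (S : Subgroup G)) →
      fam 𝒜 (S : Subgroup G) = S
  /-- disjoint strongly closed subgroups -/
  disj : ∀ (X : Type u) [Group X] [Finite X] (P : Sylow 2 X) (A B : Subgroup X),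
    A ⊓ B = ⊥ → Cfsg.IsStronglyClosed A (P : Subgroup X) → Cfsg.IsStronglyClosed B (P : Subgroup X) →
      ⁅Subgroup.normalClosure (A : Set X), Subgroup.normalClosure (B : Set X)⁆ ≤ Cfsg.oddCore X
  /-- in `PSU(3,2^n)` and `Sz(2^n)` the involutions of a Sylow 2-subgroup commute -/
  excInv : ∀ (X : Type u) [Group X] [Finite X], Exc X → ∀ (S : Sylow 2 X), ∀ x ∈ S, ∀ y ∈ S,
    x * x = 1 → y * y = 1 → x * y = y * x

/-! ### Basic facts -/

section Basic

variable {G : Type u} [Group G] [Finite G] {𝒜 : Set G}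

/-- `S ≤ 𝒜` for one Sylow 2-subgroup suffices -/
theorem all_of_sylow (h : IsClosedFam 𝒜) (S : Sylow 2 G) (hS : (S : Subgroup G) ≤ fam 𝒜 (S : Subgroup G)) :
    ∀ x, TwoElt x → x ∈ 𝒜 := by
  intro x hx
  obtain ⟨g, hg⟩ := hx.exists_conj S
  exact (h.conj_mem_iff g).1 ((h.mem_fam_iff S.2).1 (hS hg)).1

/-- the elements of `𝒜` have conjugates in `S` -/
theorem fam_ne_bot (h : IsClosedFam 𝒜) (S : Sylow 2 G) (hA : ∃ a ∈ 𝒜, a ≠ 1) : fam 𝒜 (S : Subgroup G) ≠ ⊥ := by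
  obtain ⟨a, ha, ha1⟩ := hA
  obtain ⟨g, hg⟩ := (show TwoElt a from h.two a ha).exists_conj S
  intro h1
  have h2 : g * a * g⁻¹ ∈ fam 𝒜 (S : Subgroup G) := mem_fam (h.conj_mem a ha g) hg
  rw [h1, mem_bot] at h2
  apply ha1
  have : a = g⁻¹ * (g * a * g⁻¹) * g := by group
  rw [this, h2]; group

/-- an involution of `𝒜` -/
theorem exists_involution (h : IsClosedFam 𝒜) (hA : ∃ a ∈ 𝒜, a ≠ 1) : ∃ a ∈ 𝒜, orderOf a = 2 := by
  obtain ⟨a, ha, ha1⟩ := hA
  obtain ⟨k, hk⟩ := h.two a ha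
  have h1 : orderOf a ∣ 2 ^ k := orderOf_dvd_of_pow_eq_one hk
  obtain ⟨m, -, hm⟩ := (Nat.dvd_prime_pow Nat.prime_two).1 h1
  have hm0 : m ≠ 0 := by
    rintro rfl
    rw [pow_zero, orderOf_eq_one_iff] at hm
    exact ha1 hm
  obtain ⟨j, rfl⟩ := Nat.exists_eq_succ_of_ne_zero hm0
  refine ⟨a ^ 2 ^ j, h.pow_mem ha _, ?_⟩
  rw [orderOf_pow' _ (by positivity), hm, pow_succ]
  have : Nat.gcd (2 ^ j * 2) (2 ^ j) = 2 ^ j := Nat.gcd_eq_right (Dvd.intro _ rfl)
  rw [this, Nat.mul_div_cancel_left _ (by positivity)]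

theorem oddCore_eq_bot [IsSimpleGroup G] (hG : ∃ x : G, TwoElt x ∧ x ≠ 1) : Cfsg.oddCore G = ⊥ := by
  haveI : (Cfsg.oddCore G).Normal := Cfsg.Agent.Lib.Cores.pPrimeCore_normal 2
  rcases (inferInstance : (Cfsg.oddCore G).Normal).eq_bot_or_eq_top with h1 | h1
  · exact h1
  · exfalso
    obtain ⟨x, hx, hx1⟩ := hG
    exact hx1 (hx.eq_one_of_odd (N := Cfsg.oddCore G)
      (Nat.coprime_two_right.1 (Cfsg.Agent.Lib.Cores.pPrimeCore_coprime 2)) (by rw [h1]; exact mem_top _))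

end Basic

/-! ### cyclic quotients -/

/-- `S / D` is cyclic: `S = ⟨s⟩ D` for some `s ∈ S`. -/
def CycMod {G : Type u} [Group G] (D S : Subgroup G) : Prop := ∃ s ∈ S, ∀ x ∈ S, ∃ k : ℤ, s ^ k * x ∈ D

theorem CycMod.mono {G : Type u} [Group G] {D D' S : Subgroup G} (h : CycMod D S) (hD : ∀ x ∈ D, x ∈ S → x ∈ D') :
    CycMod D' S := by
  obtain ⟨s, hs, hk⟩ := h
  refine ⟨s, hs, fun x hx => ?_⟩
  obtain ⟨k, hk⟩ := hk x hx
  exact ⟨k, hD _ hk (mul_mem (zpow_mem hs k) hx)⟩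

/-- subgroups of index at most two -/
theorem CycMod.of_index_two {G : Type u} [Group G] {D S : Subgroup G}
    (h : ∀ x ∈ S, ∀ y ∈ S, x ∉ D → y ∉ D → x * y ∈ D) : CycMod D S := by
  by_cases hs : ∃ s ∈ S, s ∉ D
  · obtain ⟨s, hs, hsD⟩ := hs
    refine ⟨s, hs, fun x hx => ?_⟩
    by_cases hxD : x ∈ D
    · exact ⟨0, by rwa [zpow_zero, one_mul]⟩
    · exact ⟨1, by rw [zpow_one]; exact h s hs x hx hsD hxD⟩
  · push Not at hs
    exact ⟨1, one_mem _, fun x hx => ⟨0, by rw [zpow_zero, one_mul]; exact hs x hx⟩⟩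

theorem CycMod.of_le {G : Type u} [Group G] {D S : Subgroup G} (h : S ≤ D) : CycMod D S :=
  ⟨1, one_mem _, fun x hx => ⟨0, by rw [zpow_zero, one_mul]; exact h hx⟩⟩

/-- **If `S / (S ∩ 𝒜)` is cyclic then `S ⊆ 𝒜`** (`G` simple). -/
theorem all_of_cyc {G : Type u} [Group G] [Finite G] [IsSimpleGroup G] (hG : ∃ a b : G, a * b ≠ b * a) {𝒜 : Set G}
    (h : IsClosedFam 𝒜) (S : Sylow 2 G) (hc : CycMod (fam 𝒜 (S : Subgroup G)) (S : Subgroup G)) :
    ∀ x, TwoElt x → x ∈ 𝒜 := by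
  classical
  refine all_of_sylow h S ?_
  set A := fam 𝒜 (S : Subgroup G) with hA
  obtain ⟨s, hs, hk⟩ := hc
  have hAn : ∀ g ∈ (S : Subgroup G), ∀ a ∈ A, g * a * g⁻¹ ∈ A := fun g hg a ha =>
    (mem_normalizer_iff.1 (h.le_normalizer_fam _ hg) a).1 ha
  haveI hAS : (A.subgroupOf (S : Subgroup G)).Normal := by
    constructor
    intro a ha g
    exact hAn g g.2 a ha
  set f := QuotientGroup.mk' (A.subgroupOf (S : Subgroup G)) with hf
  have hf1 : ∀ x : (S : Subgroup G), f x = 1 ↔ (x : G) ∈ A := by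
    intro x
    rw [hf, QuotientGroup.mk'_apply, QuotientGroup.eq_one_iff, mem_subgroupOf]
  set σ : (S : Subgroup G) := ⟨s, hs⟩ with hσ
  have hgen : ∀ x : (S : Subgroup G), ∃ k : ℤ, f x = f σ ^ k := by
    intro x
    obtain ⟨k, hkx⟩ := hk x x.2
    refine ⟨-k, ?_⟩
    have h1 : f (σ ^ k * x) = 1 := (hf1 _).2 hkx
    rw [map_mul, map_zpow] at h1
    rw [zpow_neg]
    exact eq_inv_of_mul_eq_one_right h1
  have hcomm : ∀ x y : (S : Subgroup G), Commute (f x) (f y) := by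
    intro x y
    obtain ⟨i, hi⟩ := hgen x
    obtain ⟨j, hj⟩ := hgen y
    rw [hi, hj]
    exact (Commute.refl (f σ)).zpow_zpow i j
  by_contra hcon
  -- the order of `f σ`
  have hσ1 : f σ ≠ 1 := by
    intro h1
    apply hcon
    intro x hx
    obtain ⟨k, hkx⟩ := hgen ⟨x, hx⟩
    rw [h1, one_zpow] at hkx
    exact (hf1 _).1 hkx
  obtain ⟨k, hk2⟩ := twoElt_of_mem S.2 hs
  have hσ2 : f σ ^ 2 ^ k = 1 := by
    rw [← map_pow]
    have : σ ^ 2 ^ k = 1 := Subtype.ext hk2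
    rw [this, map_one]
  obtain ⟨m, -, hm⟩ := (Nat.dvd_prime_pow Nat.prime_two).1 (orderOf_dvd_of_pow_eq_one hσ2)
  have hm0 : m ≠ 0 := by
    rintro rfl
    rw [pow_zero, orderOf_eq_one_iff] at hm
    exact hσ1 hm
  obtain ⟨j, rfl⟩ := Nat.exists_eq_succ_of_ne_zero hm0
  set N := 2 ^ j with hN
  have hσN : f σ ^ N ≠ 1 := by
    intro h1
    have h3 := orderOf_dvd_of_pow_eq_one h1
    rw [hm, Nat.succ_eq_add_one, pow_succ] at h3
    have h4 := Nat.le_of_dvd (by positivity) h3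
    have h5 : 0 < 2 ^ j := by positivity
    rw [hN] at h4
    omega
  have hσNN : (f σ ^ N) ^ 2 = 1 := by
    rw [← pow_mul, ← pow_succ, ← Nat.succ_eq_add_one, ← hm]
    exact pow_orderOf_eq_one _
  -- `f x ^ N ∈ {1, f σ ^ N}`
  have htwo : ∀ x : (S : Subgroup G), f x ^ N = 1 ∨ f x ^ N = f σ ^ N := by
    intro x
    obtain ⟨i, hi⟩ := hgen x
    rw [hi, ← zpow_natCast, ← zpow_mul, mul_comm, zpow_mul, zpow_natCast]
    rcases Int.even_or_odd i with ⟨a, rfl⟩ | ⟨a, rfl⟩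
    · left
      rw [← two_mul, zpow_mul]
      have : (f σ ^ N) ^ (2 : ℤ) = 1 := by exact_mod_cast hσNN
      rw [this, one_zpow]
    · right
      rw [zpow_add, zpow_mul, zpow_one]
      have : (f σ ^ N) ^ (2 : ℤ) = 1 := by exact_mod_cast hσNN
      rw [this, one_zpow, one_mul]
  let D : Subgroup G :=
    { carrier := {x | ∃ hx : x ∈ (S : Subgroup G), f ⟨x, hx⟩ ^ N = 1}
      one_mem' := ⟨one_mem _, by
        have : (⟨1, one_mem _⟩ : (S : Subgroup G)) = 1 := rfl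
        rw [this, map_one, one_pow]⟩
      mul_mem' := by
        rintro x y ⟨hx, hx'⟩ ⟨hy, hy'⟩
        refine ⟨mul_mem hx hy, ?_⟩
        have : (⟨x * y, mul_mem hx hy⟩ : (S : Subgroup G)) = ⟨x, hx⟩ * ⟨y, hy⟩ := rfl
        rw [this, map_mul, (hcomm _ _).mul_pow, hx', hy', one_mul]
      inv_mem' := by
        rintro x ⟨hx, hx'⟩
        refine ⟨inv_mem hx, ?_⟩
        have : (⟨x⁻¹, inv_mem hx⟩ : (S : Subgroup G)) = (⟨x, hx⟩ : (S : Subgroup G))⁻¹ := rfl
        rw [this, map_inv, inv_pow, hx', inv_one] }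
  have hD : D = S := by
    refine Cfsg.Agent.ClassTwoFusion.ModA.eq_of_focal h S hG D ?_ (fun x hx => hx.1) ?_
    · intro a ha
      have haS : a ∈ (S : Subgroup G) := fam_le _ _ ha
      refine ⟨haS, ?_⟩
      rw [(hf1 ⟨a, haS⟩).2 ha, one_pow]
    · intro x hx n hn hnx
      refine ⟨mul_mem (inv_mem hx) hnx, ?_⟩
      have e1 : (⟨x⁻¹ * (n * x * n⁻¹), mul_mem (inv_mem hx) hnx⟩ : (S : Subgroup G)) =
        (⟨x, hx⟩ : (S : Subgroup G))⁻¹ * ⟨n * x * n⁻¹, hnx⟩ := rfl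
      rw [e1, map_mul, (hcomm _ _).mul_pow, map_inv, inv_pow]
      have e2 : f (⟨x, hx⟩ : (S : Subgroup G)) ^ N = 1 ↔ f ⟨n * x * n⁻¹, hnx⟩ ^ N = 1 := by
        rw [← map_pow, ← map_pow, hf1, hf1]
        have e3 : (((⟨n * x * n⁻¹, hnx⟩ : (S : Subgroup G)) ^ N : (S : Subgroup G)) : G) = n * x ^ N * n⁻¹ := by
          show (n * x * n⁻¹) ^ N = _
          rw [conj_pow]
        have e4 : (((⟨x, hx⟩ : (S : Subgroup G)) ^ N : (S : Subgroup G)) : G) = x ^ N := rfl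
        rw [e3, e4, mem_normalizer_iff.1 hn (x ^ N)]
      rcases htwo ⟨x, hx⟩ with h1 | h1
      · rw [h1, e2.1 h1, inv_one, one_mul]
      · rcases htwo ⟨n * x * n⁻¹, hnx⟩ with h2 | h2
        · exact absurd (h1.symm.trans (e2.2 h2)) hσN
        · rw [h1, h2, inv_mul_cancel]
  have h2 : s ∈ D := by rw [hD]; exact hs
  exact hσN h2.2

/-! ### `C_G(A)` is solvable -/

/-- `C_G(A)` has no perfect subgroups. -/
theorem perfect_eq_bot (inp : Inputs.{u}) {G : Type u} [Group G] [Finite G] [IsSimpleGroup G]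
    (hG : ∃ a b : G, a * b ≠ b * a) {𝒜 : Set G} (h : IsClosedFam 𝒜) (S : Sylow 2 G) (hA : ∃ a ∈ 𝒜, a ≠ 1)
    (P : Subgroup G) (hP : P ≤ ⁅P, P⁆) (hPA : P ≤ centralizer (fam 𝒜 (S : Subgroup G) : Set G)) : P = ⊥ := by
  have hO : Cfsg.oddCore G = ⊥ := by
    obtain ⟨a, ha, ha1⟩ := hA
    exact oddCore_eq_bot ⟨a, h.two a ha, ha1⟩
  set C := centralizer (fam 𝒜 (S : Subgroup G) : Set G) with hC
  have h1 := inp.cent G hO S (fam 𝒜 (S : Subgroup G)) (h.isStronglyClosed S)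
  set K := (⨅ n : ℕ, derivedSeries ↥C n).map C.subtype with hK
  have hPK : P ≤ K := by
    have h2 : P.subgroupOf C ≤ ⨅ n : ℕ, derivedSeries ↥C n := by
      refine le_iInf fun n => ?_
      induction n with
      | zero => exact le_top
      | succ n ih =>
        rw [derivedSeries_succ]
        refine le_trans ?_ (commutator_mono ih ih)
        have h3 : (⁅P, P⁆).subgroupOf C ≤ ⁅P.subgroupOf C, P.subgroupOf C⁆ := by
          intro x hx
          have h4 : ((x : G)) ∈ (⁅P.subgroupOf C, P.subgroupOf C⁆).map C.subtype := by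
            rw [map_commutator, subgroupOf_map_subtype, inf_eq_left.2 hPA]
            exact hx
          obtain ⟨y, hy, hyx⟩ := h4
          rwa [← Subtype.ext hyx]
        exact le_trans (fun x hx => hP hx) h3
    intro x hx
    exact ⟨⟨x, hPA hx⟩, h2 hx, rfl⟩
  rcases h1.eq_bot_or_eq_top with h2 | h2
  · rw [h2] at hPK; exact le_bot_iff.1 hPK
  · exfalso
    have h3 : (⊤ : Subgroup G) ≤ C := by
      rw [← h2]
      exact map_subtype_le _
    have h4 : fam 𝒜 (S : Subgroup G) ≤ center G := by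
      intro a ha
      rw [mem_center_iff]
      intro g
      have := mem_centralizer_iff.1 (h3 (mem_top g)) a ha
      exact this.symm
    have h5 : center G ≠ ⊤ := by
      intro h6
      obtain ⟨a, b, hab⟩ := hG
      apply hab
      have : b ∈ center G := by rw [h6]; exact mem_top b
      exact mem_center_iff.1 this a
    have h6 : center G = ⊥ := ((inferInstance : (center G).Normal).eq_bot_or_eq_top).resolve_right h5
    rw [h6, le_bot_iff] at h4
    exact fam_ne_bot h S hA h4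

/-! ### quasisimple subgroups normalised by an element of `𝒜` -/

/-- `L` is perfect and its non-central normal subgroups are `L`. -/
def QS {G : Type u} [Group G] (L : Subgroup G) : Prop :=
  L ≤ ⁅L, L⁆ ∧ ∀ K ≤ L, L ≤ normalizer (K : Set G) → (∀ x ∈ K, ∀ y ∈ L, x * y = y * x) ∨ L ≤ K

/-- a group with a nice normal subgroup and cyclic quotient -/
theorem nice_sup_zpowers {G : Type u} [Group G] [Finite G] {L : Subgroup G} (hL : Nice L) {a : G}
    (ha : a ∈ normalizer (L : Set G)) : Nice ↥(L ⊔ zpowers a : Subgroup G) := by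
  set Y := L ⊔ zpowers a with hY
  have hLY : L ≤ Y := le_sup_left
  have hYN : Y ≤ normalizer (L : Set G) := sup_le le_normalizer (by rwa [zpowers_le])
  haveI : (L.subgroupOf Y).Normal := (normal_subgroupOf_iff_le_normalizer hLY).2 hYN
  refine Nice.ext (L.subgroupOf Y) (hL.congr (Subgroup.subgroupOfEquivOfLe hLY).symm) ?_
  set f := QuotientGroup.mk' (L.subgroupOf Y) with hf
  have hgen : ∀ y : Y, ∃ k : ℤ, f y = f ⟨a, (le_sup_right : zpowers a ≤ Y) (mem_zpowers a)⟩ ^ k := by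
    intro y
    have h1 : (y : G) ∈ ((L ⊔ zpowers a : Subgroup G) : Set G) := y.2
    rw [sup_comm, coe_mul_of_left_le_normalizer_right _ _ (by rwa [zpowers_le])] at h1
    obtain ⟨_, ⟨k, rfl⟩, l, hl, hlk⟩ := Set.mem_mul.1 h1
    refine ⟨k, ?_⟩
    rw [← map_zpow, hf, QuotientGroup.mk'_apply, QuotientGroup.mk'_apply, eq_comm, QuotientGroup.eq, mem_subgroupOf]
    show (a ^ k)⁻¹ * (y : G) ∈ L
    rw [← hlk]
    show (a ^ k)⁻¹ * (a ^ k * l) ∈ L
    rw [inv_mul_cancel_left]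
    exact hl
  refine nice_of_comm fun x y => ?_
  obtain ⟨x, rfl⟩ := QuotientGroup.mk'_surjective _ x
  obtain ⟨y, rfl⟩ := QuotientGroup.mk'_surjective _ y
  obtain ⟨i, hi⟩ := hgen x
  obtain ⟨j, hj⟩ := hgen y
  have h1 : Commute (f x) (f y) := by
    rw [hi, hj]
    exact (Commute.refl _).zpow_zpow i j
  exact h1

/-- **`a ∈ 𝒜` normalises the quasisimple nice subgroup `L` and does not centralise it: all 2-elements of `L` are in
`𝒜`.** -/
theorem mem_of_normalizes {G : Type u} [Group G] [Finite G] {𝒜 : Set G} (h : IsClosedFam 𝒜) {L : Subgroup G}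
    (hL : Nice L) (hq : QS L) {a : G} (ha : a ∈ 𝒜) (haN : a ∈ normalizer (L : Set G))
    (hac : ∃ x ∈ L, a * x ≠ x * a) : ∀ x ∈ L, TwoElt x → x ∈ 𝒜 := by
  set Y := L ⊔ zpowers a with hY
  have hLY : L ≤ Y := le_sup_left
  have haY : a ∈ Y := (le_sup_right : zpowers a ≤ Y) (mem_zpowers a)
  have hNice := nice_sup_zpowers hL haN
  set N := fam 𝒜 Y with hN
  have haNN : a ∈ N := mem_fam ha haY
  have hYN : Y ≤ normalizer (N : Set G) := h.le_normalizer_fam Y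
  set K := N ⊓ L with hK
  have hKN : L ≤ normalizer (K : Set G) := by
    intro y hy
    rw [mem_normalizer_iff]
    intro x
    rw [hK, mem_inf, mem_inf, ← mem_normalizer_iff.1 (hYN (hLY hy)) x, ← mem_normalizer_iff.1 (le_normalizer hy) x]
  have hcomm : ∀ x ∈ L, ⁅a, x⁆ ∈ K := by
    intro x hx
    rw [commutatorElement_def]
    refine ⟨?_, L.mul_mem ((mem_normalizer_iff.1 haN x).1 hx) (L.inv_mem hx)⟩
    have e : a * x * a⁻¹ * x⁻¹ = a * (x * a⁻¹ * x⁻¹) := by group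
    rw [e]
    exact mul_mem haNN ((mem_normalizer_iff.1 (hYN (hLY hx)) _).1 (inv_mem haNN))
  rcases hq.2 K inf_le_right hKN with h1 | h1
  · exfalso
    -- `a` centralises `L`
    obtain ⟨x, hx, hax⟩ := hac
    have hcen : ∀ y ∈ L, ∀ z ∈ L, ⁅a, y⁆ * z = z * ⁅a, y⁆ := fun y hy z hz => h1 _ (hcomm y hy) z hz
    -- the map `y ↦ [a,y]` is a homomorphism to an abelian group, so trivial on `[L,L]`
    have key : L ≤ centralizer ({a} : Set G) := by
      refine hq.1.trans ?_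
      rw [commutator_le]
      intro y hy z hz
      rw [mem_centralizer_singleton_iff]
      have e1 : a * y * a⁻¹ = ⁅a, y⁆ * y := by rw [commutatorElement_def]; group
      have e2 : a * z * a⁻¹ = ⁅a, z⁆ * z := by rw [commutatorElement_def]; group
      have c1 := hcen y hy y hy
      have c2 := hcen y hy z hz
      have c3 := hcen z hz y hy
      have c4 := hcen z hz z hz
      have c5 : ⁅a, y⁆ * ⁅a, z⁆ = ⁅a, z⁆ * ⁅a, y⁆ := hcen y hy _ (hcomm z hz).2
      set c := ⁅a, y⁆ with hc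
      set d := ⁅a, z⁆ with hd
      have e3 : a * ⁅y, z⁆ * a⁻¹ = ⁅y, z⁆ := by
        calc a * ⁅y, z⁆ * a⁻¹ = (a * y * a⁻¹) * (a * z * a⁻¹) * (a * y * a⁻¹)⁻¹ * (a * z * a⁻¹)⁻¹ := by
              rw [commutatorElement_def]; group
          _ = (c * y) * (d * z) * (c * y)⁻¹ * (d * z)⁻¹ := by rw [e1, e2]
          _ = c * (y * d) * z * y⁻¹ * c⁻¹ * z⁻¹ * d⁻¹ := by group
          _ = c * (d * y) * z * y⁻¹ * c⁻¹ * z⁻¹ * d⁻¹ := by rw [c3]
          _ = c * d * y * z * (c * y)⁻¹ * z⁻¹ * d⁻¹ := by group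
          _ = c * d * y * z * (y * c)⁻¹ * z⁻¹ * d⁻¹ := by rw [c1]
          _ = c * d * y * z * c⁻¹ * y⁻¹ * z⁻¹ * d⁻¹ := by group
          _ = c * d * y * (c⁻¹ * (c * z)) * c⁻¹ * y⁻¹ * z⁻¹ * d⁻¹ := by group
          _ = c * d * y * (c⁻¹ * (z * c)) * c⁻¹ * y⁻¹ * z⁻¹ * d⁻¹ := by rw [c2]
          _ = c * d * (y * c⁻¹) * z * y⁻¹ * z⁻¹ * d⁻¹ := by group
          _ = c * d * (c⁻¹ * (c * y) * c⁻¹) * z * y⁻¹ * z⁻¹ * d⁻¹ := by group
          _ = c * d * (c⁻¹ * (y * c) * c⁻¹) * z * y⁻¹ * z⁻¹ * d⁻¹ := by rw [c1]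
          _ = (c * d) * c⁻¹ * y * z * y⁻¹ * z⁻¹ * d⁻¹ := by group
          _ = (d * c) * c⁻¹ * y * z * y⁻¹ * z⁻¹ * d⁻¹ := by rw [c5]
          _ = d * y * z * y⁻¹ * (d * z)⁻¹ := by group
          _ = d * y * z * y⁻¹ * (z * d)⁻¹ := by rw [c4]
          _ = d * y * z * (d * y)⁻¹ * z⁻¹ := by group
          _ = d * y * z * (y * d)⁻¹ * z⁻¹ := by rw [c3]
          _ = d * y * (z * d⁻¹) * y⁻¹ * z⁻¹ := by group
          _ = d * y * (d⁻¹ * (d * z) * d⁻¹) * y⁻¹ * z⁻¹ := by group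
          _ = d * y * (d⁻¹ * (z * d) * d⁻¹) * y⁻¹ * z⁻¹ := by rw [c4]
          _ = d * (y * d⁻¹) * z * y⁻¹ * z⁻¹ := by group
          _ = d * (d⁻¹ * (d * y) * d⁻¹) * z * y⁻¹ * z⁻¹ := by group
          _ = d * (d⁻¹ * (y * d) * d⁻¹) * z * y⁻¹ * z⁻¹ := by rw [c3]
          _ = ⁅y, z⁆ := by rw [commutatorElement_def]; group
      calc ⁅y, z⁆ * a = a * ⁅y, z⁆ * a⁻¹ * a := by rw [e3]
        _ = a * ⁅y, z⁆ := by group
    exact hax (mem_centralizer_singleton_iff.1 (key hx)).symm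
  · intro x hx hx2
    exact hNice.mem h (h1 hx).1 hx2

end Cfsg.Agent.FooteNice
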